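import Groth.Agent.NeronDescent27.Space
import Groth.Agent.AlgSpLib.EtLocalInst
import Groth.Agent.AlgSpLib.SmoothSpace
import Groth.Agent.Stk19b.Fppf.Bootstrap

/-!
# The descended Néron algebraic space
-/

universe u

set_option autoImplicit false
set_option backward.isDefEq.respectTransparency.types false

open CategoryTheory Limits MonoidalCategory CartesianMonoidalCategory AlgebraicGeometry
open AlgSp

noncomputable section

namespace Groth.Agent.NeronDescent27

variable {S : Scheme.{u}} {W A N S' : Over S}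
variable [Mono W.hom] [Smooth W.hom] [Smooth A.hom] [Smooth N.hom] [Smooth S'.hom] [Surjective S'.hom]
variable (D : Datum W A N S')

theorem Datum.repWith_q_smooth : RepWith @Smooth D.q :=
  haveI := D.lft_θ
  Groth.Agent.AlgSpLib.repWith_quotSpπ D.isEqvRel @Smooth (smooth_fst_left N S')

theorem Datum.repWith_q_surjective : RepWith @Surjective D.q :=
  haveI := D.lft_θ
  Groth.Agent.AlgSpLib.repWith_surjective_quotSpπ D.isEqvRel

theorem Datum.isAlgSpace : IsAlgSpace D.Q :=
  haveI := D.lft_θ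
  haveI : Smooth (fst N S').left := smooth_fst_left N S'
  Groth.Agent.Stk19b.Fppf.isAlgSpace_quotSp_of_isEqvRel D.isEqvRel

/-- The structure map. -/
def Datum.str : D.Q ⟶ (yon S).obj (Over.mk (𝟙 S)) :=
  quotSpDesc ((yon S).map (Over.homMk N.hom : N ⟶ Over.mk (𝟙 S)))
    (by
      rw [← Functor.map_comp, ← Functor.map_comp]
      exact congrArg _ (Over.OverMorphism.ext ((Over.w (fst N S')).trans (Over.w D.θ).symm)))

theorem Datum.locP_smooth_str : LocP @Smooth D.str := by
  have hy := IsAlgSpace.yon_obj N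
  refine Groth.Agent.AlgSpLib.locP_smooth_of_fppf_family D.isAlgSpace (ι := PUnit.{u + 1}) (fun _ => D.q) (fun _ => hy)
    ⟨fun _ => ⟨?_, ?_⟩, fun x => ⟨PUnit.unit, Groth.Agent.AlgSpLib.surjective_map_of_repWith D.repWith_q_surjective x⟩⟩
    fun _ => ?_
  · exact Groth.Agent.AlgSpLib.locP_of_repWith Groth.Agent.AlgSpLib.etLocal_flat hy
      (Groth.Agent.AlgSpLib.RepWith.mono (fun _ _ g (_ : Smooth g) => (inferInstance : Flat g)) D.repWith_q_smooth)
  · exact Groth.Agent.AlgSpLib.locP_of_repWith Groth.Agent.AlgSpLib.etLocal_lfp hy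
      (Groth.Agent.AlgSpLib.RepWith.mono (fun _ _ g (_ : Smooth g) => (inferInstance : LocallyOfFinitePresentation g)) D.repWith_q_smooth)
  · rw [show D.q ≫ D.str = (yon S).map (Over.homMk N.hom : N ⟶ Over.mk (𝟙 S)) from quotSpπ_desc _ _ _ _]
    exact Groth.Agent.AlgSpLib.locP_of_repWith Groth.Agent.AlgSpLib.etLocal_smooth hy
      ((repWith_yon_map_iff _ _).2 ‹Smooth N.hom›)

theorem Datum.repWith_diag [IsSeparated D.π'.left] : RepWith @IsClosedImmersion (Limits.diag D.Q) := by
  haveI := D.lft_θ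
  haveI := D.smoothπ
  have hdiag : Representable (Limits.diag D.Q) := Groth.Agent.AlgSpLib.representable_diag_quotSp D.isEqvRel
  have hq := D.repWith_q_smooth
  haveI : Sheaf.IsLocallySurjective (prod.map D.q D.q) :=
    Groth.Agent.AlgSpLib.isLocallySurjective_of_lifts _ fun T g => by
      let p₁ := g ≫ Limits.prod.fst
      let T₁ := hq.1.pullback p₁
      let c₁ : T₁ ⟶ T := hq.1.snd p₁
      let p₂ := (yon S).map c₁ ≫ g ≫ Limits.prod.snd
      let T₂ := hq.1.pullback p₂
      let c₂ : T₂ ⟶ T₁ := hq.1.snd p₂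
      have : Smooth c₁.left := hq.property_snd p₁
      have : Smooth c₂.left := hq.property_snd p₂
      have : Surjective c₁.left := D.repWith_q_surjective.2 p₁ _ _ (hq.1.isPullback p₁)
      have : Surjective c₂.left := D.repWith_q_surjective.2 p₂ _ _ (hq.1.isPullback p₂)
      refine ⟨T₂, c₂ ≫ c₁, inferInstanceAs (Flat (c₂.left ≫ c₁.left)),
        inferInstanceAs (LocallyOfFinitePresentation (c₂.left ≫ c₁.left)),
        inferInstanceAs (Surjective (c₂.left ≫ c₁.left)),
        prod.lift ((yon S).map c₂ ≫ hq.1.fst p₁) (hq.1.fst p₂), ?_⟩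
      refine Limits.prod.hom_ext ?_ ?_
      · simp only [prod.lift_map, prod.lift_fst, Category.assoc, hq.1.w p₁]
        simp only [p₁, c₁, Functor.map_comp, Category.assoc]
      · simp only [prod.lift_map, prod.lift_snd, Category.assoc, hq.1.w p₂]
        simp only [p₂, c₂, Functor.map_comp, Category.assoc]
  have sqd : IsPullback ((yon S).map D.θ ≫ D.q) (prod.lift ((yon S).map D.θ) ((yon S).map (fst N S')))
      (Limits.diag D.Q) (prod.map D.q D.q) := Groth.Agent.AlgSpLib.isPullback_diag_prod_map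
    (Groth.Agent.AlgSpLib.isPullback_quotSpπ (Groth.Agent.AlgSpLib.isEqvRelSp_yon D.isEqvRel))
  refine Groth.Agent.AlgSpLib.repWith_of_isLocallySurjective hdiag (prod.map D.q D.q) sqd @IsClosedImmersion
    (Groth.Agent.AlgSpLib.repWith_prod_lift D.θ (fst N S') ?_)
  have hw : D.π'.left ≫ S'.hom = N.hom := Over.w D.π'
  let L := pullback.lift D.θ.left (fst N S').left ((Over.w D.θ).trans (Over.w (fst N S')).symm)
  let M : pullback N.hom N.hom ⟶ pullback N.hom S'.hom :=
    (pullbackSymmetry N.hom N.hom).hom ≫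
      pullback.map N.hom N.hom N.hom S'.hom (𝟙 _) D.π'.left (𝟙 _) (by simp) (by rw [Category.comp_id, hw])
  haveI : IsSeparated M := by
    refine MorphismProperty.comp_mem _ _ _ (inferInstance : IsSeparated _) ?_
    exact MorphismProperty.pullback_map (P := @IsSeparated) (inferInstanceAs (IsSeparated (𝟙 _)))
      ‹IsSeparated D.π'.left› (by simp) hw.symm
  have hLM : L ≫ M = 𝟙 _ := by
    refine pullback.hom_ext ?_ ?_
    · simp [L, M, pullback.lift_fst, pullback.lift_snd]
    · simp only [L, M, Category.assoc, pullback.lift_snd, pullbackSymmetry_hom_comp_snd_assoc, pullback.lift_fst_assoc,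
        Category.id_comp]
      exact congrArg CommaMorphism.left D.hθ
  haveI : IsClosedImmersion (L ≫ M) := by rw [hLM]; infer_instance
  exact IsClosedImmersion.of_comp L M

theorem Datum.isSeparatedMor_str [IsSeparated D.π'.left] : IsSeparatedMor D.str := by
  have hT : ∀ {F : Sp S} (a b : F ⟶ (yon S).obj (Over.mk (𝟙 S))), a = b := fun a b =>
    hom_ext_points a b fun T z => by
      haveI : Mono (Over.mk (𝟙 S)).hom := inferInstanceAs (Mono (𝟙 S))
      obtain ⟨a', ha'⟩ := (yon S).map_surjective (z ≫ a)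
      obtain ⟨b', hb'⟩ := (yon S).map_surjective (z ≫ b)
      rw [← ha', ← hb', hom_ext_mono a' b']
  let j : pullback D.str D.str ≅ D.Q ⨯ D.Q :=
    ⟨prod.lift (pullback.fst _ _) (pullback.snd _ _), pullback.lift Limits.prod.fst Limits.prod.snd (hT _ _),
      pullback.hom_ext (by simp [pullback.lift_fst, prod.lift_fst]) (by simp [pullback.lift_snd, prod.lift_snd]),
      Limits.prod.hom_ext (by simp [pullback.lift_fst, prod.lift_fst]) (by simp [pullback.lift_snd, prod.lift_snd])⟩
  show RepWith @IsClosedImmersion (pullback.diagonal D.str)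
  refine (haveI : IsIso j.hom := j.isIso_hom
    MorphismProperty.cancel_right_of_respectsIso (RepWith @IsClosedImmersion) _ j.hom).1 ?_
  rw [show pullback.diagonal D.str ≫ j.hom = Limits.diag D.Q from Limits.prod.hom_ext (by simp [j]) (by simp [j])]
  exact D.repWith_diag

/-- The generic fibre of the quotient. -/
def Datum.e : D.Q ⨯ (yon S).obj W ≅ (yon S).obj A :=
  haveI := D.isIso_i
  (asIso D.i).symm

theorem Datum.e_toW : D.e.hom ≫ (yon S).map D.toW = Limits.prod.snd :=
  hom_ext_points _ _ fun _ _ => subsingleton_W _ _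

theorem Datum.prod_map_e {T : Over S} (φ : (yon S).obj T ⟶ D.Q)
    (γ : (yon S).obj T ⨯ (yon S).obj W ⟶ (yon S).obj A) :
    Limits.prod.map φ (𝟙 ((yon S).obj W)) ≫ D.e.hom = γ ↔ Limits.prod.fst ≫ φ = γ ≫ D.jA := by
  constructor
  · rintro rfl
    have hi : D.e.hom ≫ D.i = 𝟙 _ := D.e.hom_inv_id
    have e : D.e.hom ≫ D.jA = Limits.prod.fst := by
      rw [show D.jA = D.i ≫ Limits.prod.fst from (prod.lift_fst _ _).symm, reassoc_of% hi]
    rw [Category.assoc, e, prod.map_fst]
  · intro h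
    rw [← Iso.eq_comp_inv]
    refine Limits.prod.hom_ext ?_ (hom_ext_points _ _ fun _ _ => subsingleton_W _ _)
    rw [prod.map_fst, h, Category.assoc]
    exact congrArg (γ ≫ ·) (prod.lift_fst _ _).symm

/-- The mapping property. -/
theorem Datum.mapping (T : Over S) [Smooth T.hom] :
    (∀ φ₁ φ₂ : (yon S).obj T ⟶ D.Q, Limits.prod.map φ₁ (𝟙 ((yon S).obj W)) ≫ D.e.hom =
        Limits.prod.map φ₂ (𝟙 ((yon S).obj W)) ≫ D.e.hom → φ₁ = φ₂) ∧
      ∀ γ : (yon S).obj T ⨯ (yon S).obj W ⟶ (yon S).obj A, ∃ φ : (yon S).obj T ⟶ D.Q,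
        Limits.prod.map φ (𝟙 ((yon S).obj W)) ≫ D.e.hom = γ := by
  let cmp : (yon S).obj (T ⊗ W) ⟶ (yon S).obj T ⨯ (yon S).obj W :=
    prod.lift ((yon S).map (fst T W)) ((yon S).map (snd T W))
  refine ⟨fun φ₁ φ₂ h => ?_, fun γ => ?_⟩
  · refine D.hom_ext T D.repWith_q_smooth D.repWith_q_surjective φ₁ φ₂ ?_
    have h1 := (D.prod_map_e φ₁ _).1 h
    have h2 := (D.prod_map_e φ₂ _).1 rfl
    have := congrArg (cmp ≫ ·) (h1.trans h2.symm)
    simpa [cmp, prod.lift_fst_assoc] using this
  · obtain ⟨γ₀, hγ₀⟩ := (yon S).map_surjective (cmp ≫ γ)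
    obtain ⟨φ, hφ⟩ := D.exists_extension T γ₀
    refine ⟨φ, (D.prod_map_e φ γ).2 (hom_ext_points _ _ fun T' z => ?_)⟩
    obtain ⟨t, ht⟩ := (yon S).map_surjective (z ≫ Limits.prod.fst)
    obtain ⟨w, hw⟩ := (yon S).map_surjective (z ≫ Limits.prod.snd)
    have hz : z = (yon S).map (lift t w) ≫ cmp := Limits.prod.hom_ext
      (by simp [cmp, ← Functor.map_comp, prod.lift_fst, ht]) (by simp [cmp, ← Functor.map_comp, prod.lift_snd, hw])
    rw [hz]
    simp only [Category.assoc, cmp, prod.lift_fst_assoc]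
    rw [hφ, hγ₀, Category.assoc]

end Groth.Agent.NeronDescent27
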