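import Groth.Agent.NeronDescent27.Universal
import Groth.Prelude.Def_AlgSp

/-!
# The equivalence relation on a Néron model after a smooth base change
-/

universe u

set_option autoImplicit false
set_option backward.isDefEq.respectTransparency.types false

open CategoryTheory Limits MonoidalCategory CartesianMonoidalCategory AlgebraicGeometry

namespace Groth.Agent.NeronDescent27

variable {S : Scheme.{u}} {W A N S' : Over S} [Mono W.hom] {π' : N ⟶ S'} {ρ : N ⊗ W ⟶ A} (h : IsUniv W A π' ρ)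
  [Smooth N.hom] [Smooth S'.hom]

include h in
theorem exists_θ : ∃ θ : N ⊗ S' ⟶ N, θ ≫ π' = snd N S' ∧ (θ ▷ W) ≫ ρ = (fst N S' ▷ W) ≫ ρ :=
  (h (N ⊗ S') (snd N S') (smooth_snd_left N S') ((fst N S' ▷ W) ≫ ρ)).exists

variable {θ : N ⊗ S' ⟶ N} (hθ : θ ≫ π' = snd N S') (hθρ : (θ ▷ W) ≫ ρ = (fst N S' ▷ W) ≫ ρ)

include h hθ hθρ in
theorem θ_self [Smooth π'.left] : lift (𝟙 N) π' ≫ θ = 𝟙 N := by
  refine h.ext π' (by rw [Category.assoc, hθ, lift_snd]) (Category.id_comp _) ?_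
  rw [comp_whiskerRight_assoc, hθρ, ← comp_whiskerRight_assoc, lift_fst]

include hθ in
theorem θ_π {T : Over S} (b : T ⟶ N) (σ : T ⟶ S') : (lift b σ ≫ θ) ≫ π' = σ := by
  rw [Category.assoc, hθ, lift_snd]

include hθρ in
theorem θ_ρ {T : Over S} (b : T ⟶ N) (σ : T ⟶ S') : ((lift b σ ≫ θ) ▷ W) ≫ ρ = (b ▷ W) ≫ ρ := by
  rw [comp_whiskerRight_assoc, hθρ, ← comp_whiskerRight_assoc, lift_fst]

include hθρ in
theorem θ_ρ' {T : Over S} (b : T ⟶ N) (σ : T ⟶ S') (w : T ⟶ W) :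
    lift (lift b σ ≫ θ) w ≫ ρ = lift b w ≫ ρ := by
  have e : ∀ x : T ⟶ N, lift x w ≫ ρ = lift (𝟙 T) w ≫ (x ▷ W) ≫ ρ := fun x => by
    rw [lift_whiskerRight_assoc, Category.id_comp]
  rw [e, e b, θ_ρ hθρ]

include h hθ hθρ in
theorem θ_id [Smooth π'.left] {T : Over S} (b : T ⟶ N) : lift b (b ≫ π') ≫ θ = b := by
  calc _ = b ≫ lift (𝟙 N) π' ≫ θ := by rw [comp_lift_assoc, Category.comp_id]
    _ = b := by rw [θ_self h hθ hθρ, Category.comp_id]

include h hθ hθρ in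
theorem θ_trans {T : Over S} (b : T ⟶ N) (σ τ : T ⟶ S') : lift (lift b σ ≫ θ) τ ≫ θ = lift b τ ≫ θ := by
  let P := (N ⊗ S') ⊗ S'
  haveI : Smooth (N ⊗ S').hom := smooth_tensor_hom N S'
  haveI : Smooth (snd (N ⊗ S') S').left := smooth_snd_left _ _
  have e : lift (fst (N ⊗ S') S' ≫ θ) (snd _ _) ≫ θ = lift (fst (N ⊗ S') S' ≫ fst N S') (snd _ _) ≫ θ := by
    refine h.ext (snd (N ⊗ S') S') (θ_π hθ _ _) (θ_π hθ _ _) ?_
    rw [θ_ρ hθρ, θ_ρ hθρ, comp_whiskerRight_assoc, comp_whiskerRight_assoc, hθρ]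
  have := congrArg (lift (lift b σ) τ ≫ ·) e
  simpa [comp_lift_assoc] using this

include h hθ hθρ in
theorem isEqvRel [Smooth π'.left] : AlgSp.IsEqvRel (fst N S') θ := by
  refine ⟨fun T r r' e1 e2 => CartesianMonoidalCategory.hom_ext _ _ e2 ?_, fun T => ⟨fun a => ?_, ?_, ?_⟩⟩
  · rw [← hθ, ← Category.assoc, e1, Category.assoc]
  · exact ⟨lift a (a ≫ π'), θ_id h hθ hθρ a, lift_fst _ _⟩
  · rintro a b ⟨r, rfl, rfl⟩
    refine ⟨lift (r ≫ θ) ((r ≫ fst N S') ≫ π'), ?_, lift_fst _ _⟩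
    have e : r = lift (r ≫ fst N S') (r ≫ snd N S') := by
      rw [← comp_lift, lift_fst_snd, Category.comp_id]
    conv_lhs => rw [e]
    rw [θ_trans h hθ hθρ, ← e, θ_id h hθ hθρ]
  · rintro a b d ⟨r, rfl, rfl⟩ ⟨r', h1, rfl⟩
    refine ⟨lift (r' ≫ fst N S') (r ≫ snd N S'), ?_, lift_fst _ _⟩
    have e : r = lift (r ≫ fst N S') (r ≫ snd N S') := by
      rw [← comp_lift, lift_fst_snd, Category.comp_id]
    have e' : r' = lift (r' ≫ fst N S') (r' ≫ snd N S') := by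
      rw [← comp_lift, lift_fst_snd, Category.comp_id]
    conv_rhs => rw [e, ← h1, e', θ_trans h hθ hθρ]

end Groth.Agent.NeronDescent27
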