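import Groth.Agent.NeronDescent27.Relation
import Groth.Agent.AlgSpLib.EqvQuot
import Groth.Agent.AlgSpLib.FppfLocal
import Groth.Agent.AlgSpLib.Descent
import Mathlib.CategoryTheory.Sites.EpiMono
import Mathlib.CategoryTheory.Sites.RegularEpi

/-!
# The quotient sheaf of the descended Néron model and its generic fibre
-/

universe u

set_option autoImplicit false
set_option backward.isDefEq.respectTransparency.types false

open CategoryTheory Limits MonoidalCategory CartesianMonoidalCategory AlgebraicGeometry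
open AlgSp

noncomputable section

namespace Groth.Agent.NeronDescent27

variable {S : Scheme.{u}}

/-- Morphisms of sheaves agreeing on scheme-valued points are equal. -/
theorem hom_ext_points {F M : Sp S} (u v : F ⟶ M)
    (h : ∀ (T : Over S) (z : (yon S).obj T ⟶ F), z ≫ u = z ≫ v) : u = v := by
  apply ObjectProperty.hom_ext
  ext T z
  obtain ⟨T⟩ := T
  have := congrArg (J S).uliftYonedaEquiv (h T ((GrothendieckTopology.uliftYonedaEquiv.{u + 1} (J S)).symm z))
  rw [GrothendieckTopology.uliftYonedaEquiv_comp, GrothendieckTopology.uliftYonedaEquiv_comp,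
    Equiv.apply_symm_apply] at this
  exact this

theorem mono_of_points {F M : Sp S} (u : F ⟶ M)
    (h : ∀ (T : Over S) (a b : (yon S).obj T ⟶ F), a ≫ u = b ≫ u → a = b) : Mono u :=
  ⟨fun {Z} a b e => hom_ext_points a b fun T z => h T _ _ (by rw [Category.assoc, e, Category.assoc])⟩

theorem epi_yon_map {V T : Over S} (c : V ⟶ T) [Flat c.left] [LocallyOfFinitePresentation c.left]
    [Surjective c.left] : Epi ((yon S).map c) := by
  have := Groth.Agent.AlgSpLib.isLocallySurjective_of_repWith (a := (yon S).map c)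
    ((repWith_yon_map_iff _ c).2 ‹Flat c.left›) ((repWith_yon_map_iff _ c).2 ‹_›) ((repWith_yon_map_iff _ c).2 ‹_›)
  exact Sheaf.epi_of_isLocallySurjective _

/-- Sections descend along a covering. -/
theorem exists_desc {V T : Over S} (c : V ⟶ T) [Flat c.left] [LocallyOfFinitePresentation c.left]
    [Surjective c.left] {F : Sp S} (x : (yon S).obj V ⟶ F)
    (hx : ∀ (P : Over S) (a b : P ⟶ V), a ≫ c = b ≫ c → (yon S).map a ≫ x = (yon S).map b ≫ x) :
    ∃ φ : (yon S).obj T ⟶ F, (yon S).map c ≫ φ = x := by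
  haveI := epi_yon_map c
  have : IsRegularEpiCategory (Sp S) := inferInstanceAs (IsRegularEpiCategory (Sheaf (J S) (Type (u + 1))))
  have : IsRegularEpi ((yon S).map c) := IsRegularEpiCategory.regularEpiOfEpi _
  have sq := (IsPullback.of_hasPullback c c).map (yon S)
  refine ⟨EffectiveEpi.desc ((yon S).map c) x (fun g₁ g₂ e => ?_), EffectiveEpi.fac _ _ _⟩
  calc g₁ ≫ x = sq.lift g₁ g₂ e ≫ (yon S).map (pullback.fst c c) ≫ x := by rw [sq.lift_fst_assoc]
    _ = g₂ ≫ x := by rw [hx _ _ _ pullback.condition, sq.lift_snd_assoc]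

variable {W A N S' : Over S}

theorem whiskerRight_comp_eq (ρ : N ⊗ W ⟶ A) {T : Over S} (x : T ⟶ N) :
    (x ▷ W) ≫ ρ = lift (fst T W ≫ x) (snd T W) ≫ ρ := by
  congr 1

theorem lift_comp_eq (ρ : N ⊗ W ⟶ A) {T : Over S} (x : T ⟶ N) (w : T ⟶ W) :
    lift x w ≫ ρ = lift (𝟙 T) w ≫ (x ▷ W) ≫ ρ := by
  rw [lift_whiskerRight_assoc, Category.id_comp]

/-- Data of a descended Néron model. -/
structure Datum (W A N S' : Over S) where
  toW : A ⟶ W
  π' : N ⟶ S'
  smoothπ : Smooth π'.left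
  ρ : N ⊗ W ⟶ A
  univ : IsUniv W A π' ρ
  sec : ∀ (T : Over S) (σ : T ⟶ S') (x : T ⟶ A), ∃ μ : T ⟶ N, μ ≫ π' = σ ∧ ∀ w : T ⟶ W, lift μ w ≫ ρ = x
  θ : N ⊗ S' ⟶ N
  hθ : θ ≫ π' = snd N S'
  hθρ : (θ ▷ W) ≫ ρ = (fst N S' ▷ W) ≫ ρ

variable [Mono W.hom] [Smooth W.hom] [Smooth A.hom] [Smooth N.hom] [Smooth S'.hom] [Surjective S'.hom]

variable (D : Datum W A N S')

/-- The quotient sheaf. -/
def Datum.Q : Sp S := quotSp ((yon S).map (fst N S')) ((yon S).map D.θ)

/-- The quotient map. -/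
def Datum.q : (yon S).obj N ⟶ D.Q := quotSpπ _ _

theorem Datum.isEqvRel : IsEqvRel (fst N S') D.θ :=
  haveI := D.smoothπ
  NeronDescent27.isEqvRel D.univ D.hθ D.hθρ

theorem Datum.lft_θ : LocallyOfFiniteType D.θ.left := by
  haveI := D.smoothπ
  have e : D.θ.left ≫ D.π'.left = (snd N S').left := by rw [← Over.comp_left, D.hθ]
  haveI : Smooth (snd N S').left := smooth_snd_left N S'
  haveI : LocallyOfFiniteType (D.θ.left ≫ D.π'.left) := e ▸ inferInstance
  exact locallyOfFiniteType_of_comp D.θ.left D.π'.left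

theorem Datum.q_F {T : Over S} (b : T ⟶ N) (σ : T ⟶ S') :
    (yon S).map (lift b σ ≫ D.θ) ≫ D.q = (yon S).map b ≫ D.q := by
  have e : (yon S).map (fst N S') ≫ D.q = (yon S).map D.θ ≫ D.q := quotSp_condition _ _
  rw [Functor.map_comp, Category.assoc, ← e, ← Functor.map_comp_assoc, lift_fst]

theorem Datum.ρ_eq_of_q {T : Over S} (y₁ y₂ : T ⟶ N) (e : (yon S).map y₁ ≫ D.q = (yon S).map y₂ ≫ D.q)
    (w : T ⟶ W) : lift y₁ w ≫ D.ρ = lift y₂ w ≫ D.ρ := by
  have sq := Groth.Agent.AlgSpLib.isPullback_quotSpπ (Groth.Agent.AlgSpLib.isEqvRelSp_yon D.isEqvRel)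
  obtain ⟨r, hr⟩ := (yon S).map_surjective (sq.lift _ _ e)
  have h1 : r ≫ D.θ = y₁ := (yon S).map_injective (by rw [Functor.map_comp, hr, sq.lift_fst])
  have h2 : r ≫ fst N S' = y₂ := (yon S).map_injective (by rw [Functor.map_comp, hr, sq.lift_snd])
  have er : r = lift y₂ (r ≫ snd N S') := CartesianMonoidalCategory.hom_ext _ _ (by rw [h2, lift_fst]) (by rw [lift_snd])
  rw [← h1, er, θ_ρ' D.hθρ]

/-- The cover of a scheme by its product with `S'`. -/
theorem cover (T : Over S) :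
    Flat (fst T S').left ∧ LocallyOfFinitePresentation (fst T S').left ∧ Surjective (fst T S').left := by
  haveI : Smooth (fst T S').left := smooth_fst_left T S'
  exact ⟨inferInstance, inferInstance, inferInstanceAs (Surjective (pullback.fst T.hom S'.hom))⟩

/-- The generic fibre maps to the quotient. -/
theorem Datum.exists_jA : ∃ jA : (yon S).obj A ⟶ D.Q, (yon S).map D.ρ ≫ jA = (yon S).map (fst N W) ≫ D.q := by
  haveI := D.smoothπ
  obtain ⟨_, _, _⟩ := cover (S' := S') A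
  obtain ⟨μ₀, hμ₀, hμ₀ρ⟩ := D.sec (A ⊗ S') (snd A S') (fst A S')
  haveI : Smooth (A ⊗ S').hom := smooth_tensor_hom A S'
  haveI : Smooth (snd (A ⊗ S') S').left := smooth_snd_left _ _
  have key : lift (fst (A ⊗ S') S' ≫ μ₀) (snd _ _) ≫ D.θ = lift (fst (A ⊗ S') S' ≫ fst A S') (snd _ _) ≫ μ₀ := by
    refine D.univ.ext (snd _ _) (θ_π D.hθ _ _) (by rw [Category.assoc, hμ₀, lift_snd]) ?_
    rw [θ_ρ D.hθρ, whiskerRight_comp_eq, whiskerRight_comp_eq]
    have e : ∀ (P : Over S) (x : P ⟶ A ⊗ S') (w : P ⟶ W), lift (x ≫ μ₀) w ≫ D.ρ = x ≫ fst A S' := fun P x w => by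
      rw [hom_ext_mono w (x ≫ fst A S' ≫ D.toW), ← comp_lift_assoc, hμ₀ρ]
    rw [← Category.assoc, ← Category.assoc, e, e]
    simp
  obtain ⟨jA, hjA⟩ := exists_desc (fst A S') ((yon S).map μ₀ ≫ D.q) (fun P a b hab => by
    have e : lift (a ≫ μ₀) (b ≫ snd A S') ≫ D.θ = b ≫ μ₀ := by
      have := congrArg (lift a (b ≫ snd A S') ≫ ·) key
      simp only [comp_lift_assoc, lift_fst_assoc, lift_snd] at this
      rw [this, hab, ← comp_lift, lift_fst_snd, Category.comp_id]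
    rw [← Functor.map_comp_assoc, ← Functor.map_comp_assoc, ← e, D.q_F])
  refine ⟨jA, ?_⟩
  haveI : Smooth (N ⊗ W).hom := smooth_tensor_hom N W
  haveI : Smooth (fst N W).left := smooth_fst_left N W
  haveI : Smooth (fst N W ≫ D.π').left := inferInstanceAs (Smooth ((fst N W).left ≫ D.π'.left))
  have hμ : lift D.ρ (fst N W ≫ D.π') ≫ μ₀ = fst N W := by
    refine D.univ.ext (fst N W ≫ D.π') (by rw [Category.assoc, hμ₀, lift_snd]) rfl ?_
    rw [whiskerRight_comp_eq, whiskerRight_comp_eq,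
      hom_ext_mono (snd (N ⊗ W) W) ((fst (N ⊗ W) W ≫ lift D.ρ (fst N W ≫ D.π')) ≫ fst A S' ≫ D.toW),
      ← Category.assoc (fst (N ⊗ W) W) (lift D.ρ _) μ₀, ← comp_lift_assoc, hμ₀ρ, Category.assoc, lift_fst]
    rw [hom_ext_mono ((fst (N ⊗ W) W ≫ lift D.ρ (fst N W ≫ D.π')) ≫ fst A S' ≫ D.toW) (fst (N ⊗ W) W ≫ snd N W),
      ← comp_lift, lift_fst_snd, Category.comp_id]
  calc (yon S).map D.ρ ≫ jA = (yon S).map (lift D.ρ (fst N W ≫ D.π')) ≫ (yon S).map (fst A S') ≫ jA := by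
        rw [← Functor.map_comp_assoc, lift_fst]
    _ = (yon S).map (fst N W) ≫ D.q := by rw [hjA, ← Functor.map_comp_assoc, hμ]

/-- The chosen map from the generic fibre to the quotient. -/
def Datum.jA : (yon S).obj A ⟶ D.Q := D.exists_jA.choose

theorem Datum.ρ_jA : (yon S).map D.ρ ≫ D.jA = (yon S).map (fst N W) ≫ D.q := D.exists_jA.choose_spec

theorem Datum.jA_point {T : Over S} (y : T ⟶ N) (w : T ⟶ W) :
    (yon S).map (lift y w ≫ D.ρ) ≫ D.jA = (yon S).map y ≫ D.q := by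
  rw [Functor.map_comp, Category.assoc, D.ρ_jA, ← Functor.map_comp_assoc, lift_fst]

/-- Equal images in the quotient come from equal generic points. -/
theorem Datum.jA_injective {T : Over S} (x y : T ⟶ A) (e : (yon S).map x ≫ D.jA = (yon S).map y ≫ D.jA) : x = y := by
  obtain ⟨_, _, _⟩ := cover (S' := S') T
  haveI := epi_yon_map (fst T S')
  refine (yon S).map_injective ((cancel_epi ((yon S).map (fst T S'))).1 ?_)
  rw [← Functor.map_comp, ← Functor.map_comp]
  obtain ⟨μ, -, hμ⟩ := D.sec (T ⊗ S') (snd T S') (fst T S' ≫ x)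
  obtain ⟨ν, -, hν⟩ := D.sec (T ⊗ S') (snd T S') (fst T S' ≫ y)
  let w := fst T S' ≫ x ≫ D.toW
  have hq : (yon S).map μ ≫ D.q = (yon S).map ν ≫ D.q := by
    rw [← D.jA_point μ w, ← D.jA_point ν w, hμ, hν, Functor.map_comp_assoc, Functor.map_comp_assoc, e]
  rw [← hμ w, ← hν w, D.ρ_eq_of_q μ ν hq w]

/-- The comparison map from the generic fibre. -/
def Datum.i : (yon S).obj A ⟶ D.Q ⨯ (yon S).obj W := prod.lift D.jA ((yon S).map D.toW)

theorem subsingleton_W {T : Over S} (a b : (yon S).obj T ⟶ (yon S).obj W) : a = b := by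
  obtain ⟨a, rfl⟩ := (yon S).map_surjective a
  obtain ⟨b, rfl⟩ := (yon S).map_surjective b
  rw [hom_ext_mono a b]

theorem Datum.isIso_i : IsIso D.i := by
  haveI : Mono D.i := mono_of_points D.i fun T a b e => by
    obtain ⟨a, rfl⟩ := (yon S).map_surjective a
    obtain ⟨b, rfl⟩ := (yon S).map_surjective b
    have := congrArg (· ≫ Limits.prod.fst) e
    simp only [Datum.i, Category.assoc, prod.lift_fst] at this
    rw [D.jA_injective a b this]
  haveI : Epi D.i := ⟨fun {M} u v e => hom_ext_points u v fun T z => by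
    haveI : Epi D.q := inferInstanceAs (Epi (coequalizer.π _ _))
    obtain ⟨C, hC, hl⟩ := Groth.Agent.AlgSpLib.exists_covering_lift D.q (z ≫ Limits.prod.fst)
    refine Groth.Agent.AlgSpLib.eq_of_covering hC fun T' f hf => ?_
    obtain ⟨h, hh⟩ := hl f hf
    obtain ⟨y, rfl⟩ := (yon S).map_surjective h
    obtain ⟨w, hw⟩ := (yon S).map_surjective (((yon S).map f ≫ z) ≫ Limits.prod.snd)
    have hz : (yon S).map f ≫ z = (yon S).map (lift y w ≫ D.ρ) ≫ D.i := by
      refine Limits.prod.hom_ext ?_ (subsingleton_W _ _)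
      rw [Category.assoc, ← hh, Category.assoc, Datum.i, prod.lift_fst, D.jA_point]
    rw [reassoc_of% hz, reassoc_of% hz, e]⟩
  exact isIso_of_mono_of_epi D.i

/-- Morphisms into the quotient from a smooth scheme are determined on the generic fibre. -/
theorem Datum.hom_ext (T : Over S) [Smooth T.hom] (hq : RepWith @Smooth D.q) (hs : RepWith @Surjective D.q)
    (φ₁ φ₂ : (yon S).obj T ⟶ D.Q) (e : (yon S).map (fst T W) ≫ φ₁ = (yon S).map (fst T W) ≫ φ₂) : φ₁ = φ₂ := by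
  have lift_q : ∀ {T : Over S} (φ : (yon S).obj T ⟶ D.Q), Smooth T.hom → ∃ (T₁ : Over S) (c : T₁ ⟶ T) (x : T₁ ⟶ N),
      Smooth c.left ∧ Surjective c.left ∧ Smooth T₁.hom ∧ (yon S).map c ≫ φ = (yon S).map x ≫ D.q := by
    intro T φ hT
    have hc : Smooth (hq.1.snd φ).left := hq.property_snd φ
    obtain ⟨x, hx⟩ := (yon S).map_surjective (hq.1.fst φ)
    refine ⟨hq.1.pullback φ, hq.1.snd φ, x, hc, hs.2 φ _ _ (hq.1.isPullback φ), smooth_hom_comp (hq.1.snd φ), ?_⟩
    rw [hx]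
    exact (hq.1.w φ).symm
  obtain ⟨T₁, c₁, x₁, _, _, hT₁, e₁⟩ := lift_q φ₁ ‹_›
  obtain ⟨T₂, c₂, x₂, _, _, hT₂, e₂⟩ := lift_q ((yon S).map c₁ ≫ φ₂) hT₁
  haveI : Smooth (fst T₂ S').left := smooth_fst_left T₂ S'
  haveI : Surjective (fst T₂ S').left := inferInstanceAs (Surjective (pullback.fst T₂.hom S'.hom))
  let c : T₂ ⊗ S' ⟶ T := fst T₂ S' ≫ c₂ ≫ c₁
  haveI : Smooth c.left := inferInstanceAs (Smooth ((fst T₂ S').left ≫ c₂.left ≫ c₁.left))
  haveI : Surjective c.left := inferInstanceAs (Surjective ((fst T₂ S').left ≫ c₂.left ≫ c₁.left))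
  haveI := epi_yon_map c
  refine (cancel_epi ((yon S).map c)).1 ?_
  let a := fst T₂ S' ≫ c₂ ≫ x₁
  let b := fst T₂ S' ≫ x₂
  have ha : (yon S).map c ≫ φ₁ = (yon S).map a ≫ D.q := by
    simp only [c, a, Functor.map_comp, Category.assoc, e₁]
  have hb : (yon S).map c ≫ φ₂ = (yon S).map b ≫ D.q := by
    simp only [c, b, Functor.map_comp, Category.assoc, e₂]
  rw [ha, hb, ← D.q_F a (snd T₂ S'), ← D.q_F b (snd T₂ S')]
  haveI : Smooth (snd T₂ S').left := smooth_snd_left _ _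
  congr 2
  refine D.univ.ext (snd T₂ S') (θ_π D.hθ _ _) (θ_π D.hθ _ _) ?_
  rw [θ_ρ D.hθρ, θ_ρ D.hθρ, whiskerRight_comp_eq, whiskerRight_comp_eq]
  refine D.jA_injective _ _ ?_
  rw [D.jA_point, D.jA_point, Functor.map_comp_assoc (yon S) _ a, Functor.map_comp_assoc (yon S) _ b, ← ha, ← hb,
    ← Functor.map_comp_assoc, ← Functor.map_comp_assoc,
    show fst (T₂ ⊗ S') W ≫ c = (c ▷ W) ≫ fst T W from (whiskerRight_fst c W).symm, Functor.map_comp, Category.assoc,
    Category.assoc, e]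

/-- Generic morphisms extend to the quotient. -/
theorem Datum.exists_extension (T : Over S) [Smooth T.hom] (γ : T ⊗ W ⟶ A) :
    ∃ φ : (yon S).obj T ⟶ D.Q, (yon S).map (fst T W) ≫ φ = (yon S).map γ ≫ D.jA := by
  obtain ⟨_, _, _⟩ := cover (S' := S') T
  haveI : Smooth (T ⊗ S').hom := smooth_tensor_hom T S'
  obtain ⟨f, ⟨hf, hfρ⟩, -⟩ := D.univ (T ⊗ S') (snd T S') (smooth_snd_left _ _) ((fst T S' ▷ W) ≫ γ)
  haveI : Smooth (snd (T ⊗ S') S').left := smooth_snd_left _ _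
  have hpt : ∀ {P : Over S} (z : P ⟶ T ⊗ S') (w : P ⟶ W), lift (z ≫ f) w ≫ D.ρ = lift (z ≫ fst T S') w ≫ γ := by
    intro P z w
    have := congrArg (lift z w ≫ ·) hfρ
    simpa [lift_whiskerRight_assoc] using this
  have key : lift (fst (T ⊗ S') S' ≫ f) (snd _ _) ≫ D.θ = lift (fst (T ⊗ S') S' ≫ fst T S') (snd _ _) ≫ f := by
    refine D.univ.ext (snd _ _) (θ_π D.hθ _ _) (by rw [Category.assoc, hf, lift_snd]) ?_
    rw [θ_ρ D.hθρ, whiskerRight_comp_eq, whiskerRight_comp_eq, ← Category.assoc, hpt, ← Category.assoc, hpt]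
    simp
  obtain ⟨φ, hφ⟩ := exists_desc (fst T S') ((yon S).map f ≫ D.q) (fun P a b hab => by
    have e : lift (a ≫ f) (b ≫ snd T S') ≫ D.θ = b ≫ f := by
      have := congrArg (lift a (b ≫ snd T S') ≫ ·) key
      simp only [comp_lift_assoc, lift_fst_assoc, lift_snd] at this
      rw [this, hab, ← comp_lift, lift_fst_snd, Category.comp_id]
    rw [← Functor.map_comp_assoc, ← Functor.map_comp_assoc, ← e, D.q_F])
  refine ⟨φ, ?_⟩
  haveI : Smooth (T ⊗ W).hom := smooth_tensor_hom T W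
  obtain ⟨_, _, _⟩ := cover (S' := S') (T ⊗ W)
  haveI := epi_yon_map (fst (T ⊗ W) S')
  refine (cancel_epi ((yon S).map (fst (T ⊗ W) S'))).1 ?_
  rw [← Functor.map_comp_assoc, ← Functor.map_comp_assoc,
    show fst (T ⊗ W) S' ≫ fst T W = (fst T W ▷ S') ≫ fst T S' from (whiskerRight_fst (fst T W) S').symm, Functor.map_comp, Category.assoc,
    hφ, ← Functor.map_comp_assoc]
  have hw := hpt (fst T W ▷ S') (fst (T ⊗ W) S' ≫ snd T W)
  rw [whiskerRight_fst, ← comp_lift, lift_fst_snd, Category.comp_id] at hw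
  rw [← hw, D.jA_point]

end Groth.Agent.NeronDescent27
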