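import Groth.Agent.SpecStalk27.Core
import Mathlib.CategoryTheory.Monoidal.Cartesian.Over

/-!
# The universal property of a Néron model after a smooth base change, seen over the base
-/

universe u

set_option autoImplicit false
set_option backward.isDefEq.respectTransparency.types false

open CategoryTheory Limits MonoidalCategory CartesianMonoidalCategory AlgebraicGeometry

namespace Groth.Agent.NeronDescent27

variable {S : Scheme.{u}}

/-- Morphisms into a subobject of the base are unique. -/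
theorem hom_ext_mono {W T : Over S} [Mono W.hom] (a b : T ⟶ W) : a = b :=
  Over.OverMorphism.ext ((cancel_mono W.hom).1 ((Over.w a).trans (Over.w b).symm))

theorem smooth_tensor_hom (X Y : Over S) [Smooth X.hom] [Smooth Y.hom] : Smooth (X ⊗ Y).hom := by
  show Smooth (pullback.fst X.hom Y.hom ≫ X.hom)
  infer_instance

theorem smooth_snd_left (X Y : Over S) [Smooth X.hom] : Smooth (snd X Y).left := by
  show Smooth (pullback.snd X.hom Y.hom)
  infer_instance

theorem smooth_fst_left (X Y : Over S) [Smooth Y.hom] : Smooth (fst X Y).left := by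
  show Smooth (pullback.fst X.hom Y.hom)
  infer_instance

theorem smooth_hom_comp {T T' : Over S} (t : T ⟶ T') [Smooth t.left] [Smooth T'.hom] : Smooth T.hom := by
  rw [← Over.w t]; infer_instance

/-- The universal property of `N` over `S'` relative to a generic object `A` over the subobject `W`. -/
def IsUniv (W A : Over S) {N S' : Over S} (π' : N ⟶ S') (ρ : N ⊗ W ⟶ A) : Prop :=
  ∀ (T : Over S) (t : T ⟶ S'), Smooth t.left → ∀ γ : T ⊗ W ⟶ A, ∃! f : T ⟶ N, f ≫ π' = t ∧ (f ▷ W) ≫ ρ = γ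

variable {W A N S' : Over S} {π' : N ⟶ S'} {ρ : N ⊗ W ⟶ A}

theorem IsUniv.ext (h : IsUniv W A π' ρ) {T : Over S} (t : T ⟶ S') [Smooth t.left] {f₁ f₂ : T ⟶ N}
    (h₁ : f₁ ≫ π' = t) (h₂ : f₂ ≫ π' = t) (hρ : (f₁ ▷ W) ≫ ρ = (f₂ ▷ W) ≫ ρ) : f₁ = f₂ :=
  (h T t ‹_› _).unique ⟨h₁, hρ⟩ ⟨h₂, rfl⟩

theorem exists_univ {S₁ : Scheme.{u}} (g : S₁ ⟶ S) (U : S.Opens) (A₀ : Scheme.{u}) (a : A₀ ⟶ (U : Scheme.{u}))
    (N' : Over S₁) (e' : pullback N'.hom (g ⁻¹ᵁ U).ι ≅ pullback a (g ∣_ U))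
    (he' : e'.hom ≫ pullback.snd a (g ∣_ U) = pullback.snd N'.hom (g ⁻¹ᵁ U).ι)
    (hE : SpecStalk27.HasExtension (g ⁻¹ᵁ U) N'.hom) :
    ∃ ρ : Over.mk (N'.hom ≫ g) ⊗ Over.mk U.ι ⟶ Over.mk (a ≫ U.ι),
      IsUniv (Over.mk U.ι) (Over.mk (a ≫ U.ι)) (Over.homMk N'.hom rfl : Over.mk (N'.hom ≫ g) ⟶ Over.mk g) ρ ∧
      ∀ (T : Over S) (σ : T ⟶ Over.mk g) (x : T ⟶ Over.mk (a ≫ U.ι)), ∃ μ : T ⟶ Over.mk (N'.hom ≫ g),
        μ ≫ (Over.homMk N'.hom rfl : Over.mk (N'.hom ≫ g) ⟶ Over.mk g) = σ ∧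
          ∀ w : T ⟶ Over.mk U.ι, lift μ w ≫ ρ = x := by
  let V := g ⁻¹ᵁ U
  let π' : Over.mk (N'.hom ≫ g) ⟶ Over.mk g := Over.homMk N'.hom rfl
  let NW := Over.mk (N'.hom ≫ g) ⊗ Over.mk U.ι
  have hNW : NW.hom = (fst (Over.mk (N'.hom ≫ g)) (Over.mk U.ι)).left ≫ N'.hom ≫ g :=
    (Over.w (fst (Over.mk (N'.hom ≫ g)) (Over.mk U.ι))).symm
  let c : NW.left ⟶ pullback N'.hom V.ι := pullback.lift (fst (Over.mk (N'.hom ≫ g)) (Over.mk U.ι)).left
    (IsOpenImmersion.lift V.ι ((fst (Over.mk (N'.hom ≫ g)) (Over.mk U.ι)).left ≫ N'.hom) (by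
      rintro _ ⟨z, rfl⟩
      rw [Scheme.Opens.range_ι]
      have e : (((fst (Over.mk (N'.hom ≫ g)) (Over.mk U.ι)).left ≫ N'.hom) ≫ g) z =
          ((snd (Over.mk (N'.hom ≫ g)) (Over.mk U.ι)).left ≫ U.ι) z := by
        rw [Category.assoc, ← hNW]
        exact congr($((Over.w (snd (Over.mk (N'.hom ≫ g)) (Over.mk U.ι))).symm) z)
      exact (congrArg (fun y => y ∈ U) e).mpr ((snd (Over.mk (N'.hom ≫ g)) (Over.mk U.ι)).left z).2))
    (IsOpenImmersion.lift_fac _ _ _).symm
  let ρ : NW ⟶ Over.mk (a ≫ U.ι) := Over.homMk (c ≫ e'.hom ≫ pullback.fst a (g ∣_ U)) (by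
    show (c ≫ e'.hom ≫ pullback.fst a (g ∣_ U)) ≫ a ≫ U.ι = NW.hom
    rw [Category.assoc, Category.assoc, pullback.condition_assoc, reassoc_of% he', morphismRestrict_ι,
      ← pullback.condition_assoc, pullback.lift_fst_assoc, hNW])
  -- points of `ρ`
  have hρ : ∀ {T : Over S} (μ : T ⟶ Over.mk (N'.hom ≫ g)) (w : T ⟶ Over.mk U.ι)
      (v : T.left ⟶ (V : Scheme.{u})) (hv : μ.left ≫ N'.hom = v ≫ V.ι),
      (lift μ w ≫ ρ).left = pullback.lift μ.left v hv ≫ e'.hom ≫ pullback.fst a (g ∣_ U) := by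
    intro T μ w v hv
    show (lift μ w).left ≫ c ≫ e'.hom ≫ _ = _
    rw [← Category.assoc]
    congr 1
    have e1 : (lift μ w).left ≫ (fst (Over.mk (N'.hom ≫ g)) (Over.mk U.ι)).left = μ.left := by
      rw [← Over.comp_left, lift_fst]
    refine pullback.hom_ext ?_ ?_
    · rw [Category.assoc, pullback.lift_fst, pullback.lift_fst, e1]
    · rw [Category.assoc, pullback.lift_snd, pullback.lift_snd, ← cancel_mono V.ι, Category.assoc,
        IsOpenImmersion.lift_fac, reassoc_of% e1, hv]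
  refine ⟨ρ, ?_, fun T σ x => ?_⟩
  · intro T t ht γ
    have hTW : ∀ z, t.left z ∈ V ↔ T.hom z ∈ U := fun z => by
      rw [← Over.w t]; rfl
    let O := t.left ⁻¹ᵁ V
    let j : Over.mk (O.ι ≫ T.hom) ⟶ T ⊗ Over.mk U.ι := lift (Over.homMk O.ι rfl)
      (Over.homMk (IsOpenImmersion.lift U.ι (O.ι ≫ T.hom) (by
        rintro _ ⟨z, rfl⟩; rw [Scheme.Opens.range_ι]; exact (hTW z.1).1 z.2)) (IsOpenImmersion.lift_fac _ _ _))
    haveI : Mono (Over.mk U.ι).hom := inferInstanceAs (Mono U.ι)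
    haveI : Epi j := by
      let k : T ⊗ Over.mk U.ι ⟶ Over.mk (O.ι ≫ T.hom) := Over.homMk
        (IsOpenImmersion.lift O.ι (fst T (Over.mk U.ι)).left (by
          rintro _ ⟨z, rfl⟩
          rw [Scheme.Opens.range_ι]
          refine (hTW _).2 ?_
          have e : T.hom ((fst T (Over.mk U.ι)).left z) = U.ι ((snd T (Over.mk U.ι)).left z) := by
            have := (Over.w (fst T (Over.mk U.ι))).trans (Over.w (snd T (Over.mk U.ι))).symm
            exact congr($this z)
          exact (congrArg (fun y => y ∈ U) e).mpr ((snd T (Over.mk U.ι)).left z).2)) (by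
          show _ ≫ O.ι ≫ T.hom = _
          rw [IsOpenImmersion.lift_fac_assoc]
          exact Over.w (fst T (Over.mk U.ι)))
      haveI : IsSplitEpi j := IsSplitEpi.mk' ⟨k, CartesianMonoidalCategory.hom_ext _ _ (by
        rw [Category.assoc, lift_fst, Category.id_comp]
        exact Over.OverMorphism.ext (IsOpenImmersion.lift_fac _ _ _)) (hom_ext_mono _ _)⟩
      infer_instance
    have hγ : (j ≫ γ).left ≫ a = (t.left ∣_ V) ≫ (g ∣_ U) := by
      rw [← cancel_mono U.ι, Category.assoc]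
      refine (Over.w (j ≫ γ)).trans ?_
      simp only [Category.assoc, morphismRestrict_ι]
      rw [reassoc_of% (morphismRestrict_ι t.left V)]
      exact congrArg (O.ι ≫ ·) (Over.w t).symm
    let g₀ : (O : Scheme.{u}) ⟶ N'.left := pullback.lift (j ≫ γ).left (t.left ∣_ V) hγ ≫ e'.inv ≫ pullback.fst _ _
    have he'' : e'.inv ≫ pullback.snd N'.hom V.ι = pullback.snd a (g ∣_ U) := by
      rw [← he', Iso.inv_hom_id_assoc]
    have hg₀ : g₀ ≫ N'.hom = O.ι ≫ t.left := by
      simp only [g₀, Category.assoc, pullback.condition]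
      rw [reassoc_of% he'', pullback.lift_snd_assoc, morphismRestrict_ι]
    -- translation of the generic condition
    have key : ∀ (f : T ⟶ Over.mk (N'.hom ≫ g)), f ≫ π' = t →
        ((f ▷ Over.mk U.ι) ≫ ρ = γ ↔ O.ι ≫ f.left = g₀) := by
      intro f hft
      have hft' : f.left ≫ N'.hom = t.left := congrArg CommaMorphism.left hft
      have hv : (O.ι ≫ f.left) ≫ N'.hom = (t.left ∣_ V) ≫ V.ι := by
        rw [Category.assoc, hft', morphismRestrict_ι]
      let i₀ : Over.mk (O.ι ≫ T.hom) ⟶ T := Over.homMk O.ι rfl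
      have e1 : j ≫ (f ▷ Over.mk U.ι) = lift (i₀ ≫ f) (j ≫ snd _ _) :=
        CartesianMonoidalCategory.hom_ext _ _ (by rw [Category.assoc, whiskerRight_fst, lift_fst_assoc, lift_fst]) (hom_ext_mono _ _)
      have e2 : (j ≫ (f ▷ Over.mk U.ι) ≫ ρ).left =
          pullback.lift (O.ι ≫ f.left) (t.left ∣_ V) hv ≫ e'.hom ≫ pullback.fst a (g ∣_ U) := by
        rw [reassoc_of% e1]
        exact hρ (i₀ ≫ f) (j ≫ snd _ _) (t.left ∣_ V) hv
      rw [← cancel_epi j]
      constructor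
      · intro h
        have h' := (congrArg CommaMorphism.left h).symm.trans e2
        have : pullback.lift (O.ι ≫ f.left) (t.left ∣_ V) hv ≫ e'.hom = pullback.lift (j ≫ γ).left (t.left ∣_ V) hγ :=
          pullback.hom_ext (by rw [Category.assoc, pullback.lift_fst]; exact h'.symm)
            (by rw [Category.assoc, he', pullback.lift_snd, pullback.lift_snd])
        show _ = pullback.lift (j ≫ γ).left (t.left ∣_ V) hγ ≫ e'.inv ≫ pullback.fst _ _
        rw [← this, Category.assoc, Iso.hom_inv_id_assoc, pullback.lift_fst]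
      · intro h
        refine Over.OverMorphism.ext (e2.trans ?_)
        have : pullback.lift (O.ι ≫ f.left) (t.left ∣_ V) hv = pullback.lift (j ≫ γ).left (t.left ∣_ V) hγ ≫ e'.inv :=
          pullback.hom_ext (by rw [pullback.lift_fst, h, Category.assoc])
            (by rw [Category.assoc, he'', pullback.lift_snd, pullback.lift_snd])
        rw [this, Category.assoc, Iso.inv_hom_id_assoc, pullback.lift_fst]
    obtain ⟨f, ⟨hf, hfU⟩, huniq⟩ := hE T.left t.left ht g₀ hg₀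
    let fS : T ⟶ Over.mk (N'.hom ≫ g) := Over.homMk f (by
      show f ≫ N'.hom ≫ g = T.hom
      rw [reassoc_of% hf]; exact Over.w t)
    have hfS : fS ≫ π' = t := Over.OverMorphism.ext hf
    refine ⟨fS, ⟨hfS, (key fS hfS).2 hfU⟩, fun f' hf' => Over.OverMorphism.ext ?_⟩
    exact huniq f'.left ⟨congrArg CommaMorphism.left hf'.1, (key f' hf'.1).1 hf'.2⟩
  · have hx : (x.left ≫ a) ≫ U.ι = σ.left ≫ g := by
      rw [Category.assoc]; exact (Over.w x).trans (Over.w σ).symm
    let v : T.left ⟶ (V : Scheme.{u}) := IsOpenImmersion.lift V.ι σ.left (by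
      rintro _ ⟨z, rfl⟩
      rw [Scheme.Opens.range_ι]
      have e : g (σ.left z) = U.ι ((x.left ≫ a) z) := congr($hx.symm z)
      exact (congrArg (fun y => y ∈ U) e).mpr ((x.left ≫ a) z).2)
    have hvV : v ≫ V.ι = σ.left := IsOpenImmersion.lift_fac _ _ _
    let p : T.left ⟶ pullback a (g ∣_ U) := pullback.lift x.left v (by
      rw [← cancel_mono U.ι, hx, Category.assoc, morphismRestrict_ι, reassoc_of% hvV])
    let μ : T ⟶ Over.mk (N'.hom ≫ g) := Over.homMk (p ≫ e'.inv ≫ pullback.fst _ _) (by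
      show (p ≫ e'.inv ≫ pullback.fst N'.hom V.ι) ≫ N'.hom ≫ g = T.hom
      have : e'.inv ≫ pullback.snd N'.hom V.ι = pullback.snd a (g ∣_ U) := by rw [← he', Iso.inv_hom_id_assoc]
      simp only [Category.assoc, pullback.condition_assoc]
      rw [reassoc_of% this, pullback.lift_snd_assoc, reassoc_of% hvV]
      exact Over.w σ)
    have hμ : μ.left ≫ N'.hom = v ≫ V.ι := by
      show (p ≫ e'.inv ≫ pullback.fst N'.hom V.ι) ≫ N'.hom = v ≫ V.ι
      have : e'.inv ≫ pullback.snd N'.hom V.ι = pullback.snd a (g ∣_ U) := by rw [← he', Iso.inv_hom_id_assoc]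
      simp only [Category.assoc, pullback.condition]
      rw [reassoc_of% this, pullback.lift_snd_assoc]
    refine ⟨μ, Over.OverMorphism.ext (hμ.trans hvV), fun w => Over.OverMorphism.ext ((hρ μ w v hμ).trans ?_)⟩
    have e : pullback.lift μ.left v hμ = p ≫ e'.inv :=
      pullback.hom_ext (by rw [pullback.lift_fst, Category.assoc]; rfl)
        (by rw [pullback.lift_snd, Category.assoc, show e'.inv ≫ pullback.snd N'.hom V.ι = pullback.snd a (g ∣_ U) from
          by rw [← he', Iso.inv_hom_id_assoc], pullback.lift_snd])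
    rw [e, Category.assoc, Iso.inv_hom_id_assoc, pullback.lift_fst]

end Groth.Agent.NeronDescent27
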